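import Mathlib

/-!
# `TwoFix`: every automorphism of order at most two centralises two commuting involutions

helper35's #9415 [TF].

* `TwoFix X`
* `TwoFix.congr`
* `exists_sylow` : an automorphism of order at most two stabilises a Sylow 2-subgroup.
* `TwoFix.of_sylow` : it is enough to know `TwoFix` for the Sylow 2-subgroups.
-/

set_option autoImplicit false

namespace Cfsg.Agent.UGT

open Subgroup
open scoped Pointwise

/-- every automorphism of order at most two centralises two different commuting involutions -/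
def TwoFix (X : Type*) [Group X] : Prop :=
  ∀ t : MulAut X, t * t = 1 →
    ∃ a b : X, a ≠ b ∧ orderOf a = 2 ∧ orderOf b = 2 ∧ a * b = b * a ∧ t a = a ∧ t b = b

theorem TwoFix.congr {X Y : Type*} [Group X] [Group Y] (e : X ≃* Y) (h : TwoFix X) : TwoFix Y := by
  intro t ht
  obtain ⟨a, b, hab, ha, hb, hc, hta, htb⟩ := h ((MulAut.congr e).symm t) (by
    rw [← map_mul, ht, map_one])
  have key : ∀ x : X, (MulAut.congr e).symm t x = x → t (e x) = e x := by
    intro x hx
    have : e ((MulAut.congr e).symm t x) = t (e x) := by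
      simp [MulAut.congr]
    rw [← this, hx]
  refine ⟨e a, e b, fun h => hab (e.injective h), ?_, ?_, ?_, key a hta, key b htb⟩
  · rw [← ha]; exact orderOf_injective e.toMonoidHom e.injective a
  · rw [← hb]; exact orderOf_injective e.toMonoidHom e.injective b
  · rw [← map_mul, hc, map_mul]

/-- an automorphism of order at most two stabilises a Sylow 2-subgroup -/
theorem TwoFix.exists_sylow {X : Type*} [Group X] [Finite X] (t : MulAut X) (ht : t * t = 1) :
    ∃ S : Sylow 2 X, ∀ x ∈ (S : Subgroup X), t x ∈ (S : Subgroup X) := by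
  classical
  have : Fact (Nat.Prime 2) := ⟨Nat.prime_two⟩
  have hodd : ¬ 2 ∣ Nat.card (Sylow 2 X) := by
    have h0 := card_sylow_modEq_one 2 X
    intro h
    rw [Nat.ModEq, (Nat.dvd_iff_mod_eq_zero).1 h] at h0
    omega
  have : Fintype (Sylow 2 X) := Fintype.ofFinite _
  obtain ⟨S, hS⟩ := Equiv.Perm.exists_fixed_point_of_prime (p := 2) (n := 1)
    (by rwa [Nat.card_eq_fintype_card] at hodd)
    (σ := MulAction.toPerm t) (by
      ext S : 1
      change t • t • S = S
      rw [smul_smul, ht, one_smul])
  refine ⟨S, fun x hx => ?_⟩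
  have h1 : t • S = S := hS
  have h2 : t • x ∈ t • (S : Subgroup X) := Subgroup.smul_mem_pointwise_smul x t _ hx
  rw [← Sylow.pointwise_smul_def, h1] at h2
  exact h2

/-- the restriction of an automorphism of order at most two to an invariant subgroup -/
def TwoFix.restr {X : Type*} [Group X] (t : MulAut X) (ht : t * t = 1) (S : Subgroup X)
    (hS : ∀ x ∈ S, t x ∈ S) : MulAut S where
  toFun x := ⟨t x, hS x x.2⟩
  invFun x := ⟨t x, hS x x.2⟩
  left_inv x := Subtype.ext (by
    change t (t x) = x
    rw [← MulAut.mul_apply, ht]; rfl)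
  right_inv x := Subtype.ext (by
    change t (t x) = x
    rw [← MulAut.mul_apply, ht]; rfl)
  map_mul' x y := Subtype.ext (map_mul t (x : X) (y : X))

theorem TwoFix.restr_apply {X : Type*} [Group X] (t : MulAut X) (ht : t * t = 1) (S : Subgroup X)
    (hS : ∀ x ∈ S, t x ∈ S) (x : S) : (TwoFix.restr t ht S hS x : X) = t x := rfl

/-- it is enough to know `TwoFix` for the Sylow 2-subgroups -/
theorem TwoFix.of_sylow {X : Type*} [Group X] [Finite X]
    (h : ∀ S : Sylow 2 X, TwoFix ↥(S : Subgroup X)) : TwoFix X := by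
  intro t ht
  obtain ⟨S, hS⟩ := TwoFix.exists_sylow t ht
  obtain ⟨a, b, hab, ha, hb, hc, hta, htb⟩ := h S (TwoFix.restr t ht S hS) (by
    ext x
    change t (t x) = x
    rw [← MulAut.mul_apply, ht]; rfl)
  refine ⟨a, b, fun h => hab (Subtype.ext h), ?_, ?_, congrArg Subtype.val hc,
    congrArg Subtype.val hta, congrArg Subtype.val htb⟩
  · rw [Subgroup.orderOf_coe, ha]
  · rw [Subgroup.orderOf_coe, hb]

end Cfsg.Agent.UGT
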