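import Cfsg.Agent.UGT.TwoFix.Base
import Cfsg.Agent.StandardComponent.AltAut
import Cfsg.Agent.GH.Defs

/-!
# Every involutory automorphism of `A_n`, `n ≥ 8`, centralises a four-group

`twoFix_alt`: `TwoFix` for the alternating groups of degree at least `8`.
-/

set_option autoImplicit false

namespace Cfsg.Agent.UGT.TwoFix.Alt

open Equiv Equiv.Perm
open Cfsg.Agent.UGT

section Perm

variable {α : Type*} [Fintype α] [DecidableEq α]

/-- The double transposition. -/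
theorem dbl {p₁ p₂ p₃ p₄ : α} (h12 : p₁ ≠ p₂) (h13 : p₁ ≠ p₃) (h14 : p₁ ≠ p₄) (h23 : p₂ ≠ p₃)
    (h24 : p₂ ≠ p₄) (h34 : p₃ ≠ p₄) :
    sign (swap p₁ p₂ * swap p₃ p₄) = 1 ∧
      (swap p₁ p₂ * swap p₃ p₄) * (swap p₁ p₂ * swap p₃ p₄) = 1 ∧
      (swap p₁ p₂ * swap p₃ p₄) p₁ = p₂ ∧ (swap p₁ p₂ * swap p₃ p₄) p₂ = p₁ ∧
      (swap p₁ p₂ * swap p₃ p₄) p₃ = p₄ ∧ (swap p₁ p₂ * swap p₃ p₄) p₄ = p₃ ∧
      swap p₁ p₂ * swap p₃ p₄ = swap p₃ p₄ * swap p₁ p₂ := by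
  have hc : swap p₁ p₂ * swap p₃ p₄ = swap p₃ p₄ * swap p₁ p₂ := by
    rw [mul_swap_eq_swap_mul, swap_apply_of_ne_of_ne h13.symm h23.symm,
      swap_apply_of_ne_of_ne h14.symm h24.symm]
  refine ⟨?_, ?_, ?_, ?_, ?_, ?_, hc⟩
  · rw [map_mul, sign_swap h12, sign_swap h34]
    decide
  · calc (swap p₁ p₂ * swap p₃ p₄) * (swap p₁ p₂ * swap p₃ p₄) =
          (swap p₁ p₂ * swap p₃ p₄) * (swap p₃ p₄ * swap p₁ p₂) := by rw [← hc]
      _ = swap p₁ p₂ * (swap p₃ p₄ * swap p₃ p₄) * swap p₁ p₂ := by group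
      _ = 1 := by rw [swap_mul_self, mul_one, swap_mul_self]
  · rw [Perm.mul_apply, swap_apply_of_ne_of_ne h13 h14, swap_apply_left]
  · rw [Perm.mul_apply, swap_apply_of_ne_of_ne h23 h24, swap_apply_right]
  · rw [Perm.mul_apply, swap_apply_left, swap_apply_of_ne_of_ne h14.symm h24.symm]
  · rw [Perm.mul_apply, swap_apply_right, swap_apply_of_ne_of_ne h13.symm h23.symm]

/-- An involution of the symmetric group of degree at least `8` commutes with two commuting even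
involutions. -/
theorem exists_pair (h8 : 8 ≤ Fintype.card α) {τ : Perm α} (hτ : τ * τ = 1) :
    ∃ a b : Perm α, sign a = 1 ∧ sign b = 1 ∧ a * a = 1 ∧ b * b = 1 ∧ a ≠ 1 ∧ b ≠ 1 ∧ a ≠ b ∧
      a * b = b * a ∧ τ * a = a * τ ∧ τ * b = b * τ := by
  have hττ : ∀ x, τ (τ x) = x := fun x => by
    rw [← Perm.mul_apply, hτ, Perm.one_apply]
  by_cases h5 : 5 ≤ τ.support.card
  · -- three two-cycles
    obtain ⟨x₁, hx₁⟩ : τ.support.Nonempty := Finset.card_pos.1 (by omega)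
    obtain ⟨x₂, hx₂, hx₂'⟩ : ∃ x ∈ τ.support, x ∉ ({x₁, τ x₁} : Finset α) := by
      apply Finset.exists_mem_notMem_of_card_lt_card
      exact lt_of_le_of_lt (Finset.card_le_two) (by omega)
    obtain ⟨x₃, hx₃, hx₃'⟩ : ∃ x ∈ τ.support, x ∉ ({x₁, τ x₁, x₂, τ x₂} : Finset α) := by
      apply Finset.exists_mem_notMem_of_card_lt_card
      exact lt_of_le_of_lt (Finset.card_le_four) (by omega)
    rw [Perm.mem_support] at hx₁ hx₂ hx₃
    simp only [Finset.mem_insert, Finset.mem_singleton, not_or] at hx₂' hx₃'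
    obtain ⟨h21, h21'⟩ := hx₂'
    obtain ⟨h31, h31', h32, h32'⟩ := hx₃'
    have hne : ∀ {x y : α}, x ≠ y → x ≠ τ y → τ x ≠ y ∧ τ x ≠ τ y := by
      intro x y h1 h2
      refine ⟨fun h3 => h2 ?_, fun h3 => h1 (τ.injective h3)⟩
      rw [← h3, hττ]
    obtain ⟨h21a, h21b⟩ := hne h21 h21'
    obtain ⟨h31a, h31b⟩ := hne h31 h31'
    obtain ⟨h32a, h32b⟩ := hne h32 h32'
    have hcom : ∀ x, τ * swap x (τ x) = swap x (τ x) * τ := by
      intro x
      rw [mul_swap_eq_swap_mul, hττ, swap_comm]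
    obtain ⟨a1, a2, a3, -, a5, -, a7⟩ :=
      dbl (p₁ := x₁) (p₂ := τ x₁) (p₃ := x₂) (p₄ := τ x₂) hx₁.symm (fun h => h21 h.symm)
        (fun h => h21a h.symm) (fun h => h21' h.symm) (fun h => h21b h.symm) hx₂.symm
    obtain ⟨b1, b2, b3, -, -, -, b7⟩ :=
      dbl (p₁ := x₁) (p₂ := τ x₁) (p₃ := x₃) (p₄ := τ x₃) hx₁.symm (fun h => h31 h.symm)
        (fun h => h31a h.symm) (fun h => h31' h.symm) (fun h => h31b h.symm) hx₃.symm
    obtain ⟨-, -, -, -, -, -, c7⟩ :=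
      dbl (p₁ := x₂) (p₂ := τ x₂) (p₃ := x₃) (p₄ := τ x₃) hx₂.symm (fun h => h32 h.symm)
        (fun h => h32a h.symm) (fun h => h32' h.symm) (fun h => h32b h.symm) hx₃.symm
    refine ⟨_, _, a1, b1, a2, b2, ?_, ?_, ?_, ?_, ?_, ?_⟩
    · intro h
      rw [h, Perm.one_apply] at a3
      exact hx₁ a3.symm
    · intro h
      rw [h, Perm.one_apply] at b3
      exact hx₁ b3.symm
    · intro h
      rw [h] at a5
      have h1 : (swap x₁ (τ x₁) * swap x₃ (τ x₃)) x₂ = x₂ := by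
        rw [Perm.mul_apply, swap_apply_of_ne_of_ne (fun h => h32 h.symm) (fun h => h32a h.symm),
          swap_apply_of_ne_of_ne h21 h21']
      rw [h1] at a5
      exact hx₂ a5.symm
    · calc swap x₁ (τ x₁) * swap x₂ (τ x₂) * (swap x₁ (τ x₁) * swap x₃ (τ x₃)) =
            swap x₁ (τ x₁) * (swap x₂ (τ x₂) * swap x₁ (τ x₁)) * swap x₃ (τ x₃) := by group
        _ = swap x₁ (τ x₁) * (swap x₁ (τ x₁) * swap x₂ (τ x₂)) * swap x₃ (τ x₃) := by rw [a7]
        _ = swap x₁ (τ x₁) * swap x₁ (τ x₁) * (swap x₂ (τ x₂) * swap x₃ (τ x₃)) := by group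
        _ = swap x₁ (τ x₁) * swap x₁ (τ x₁) * (swap x₃ (τ x₃) * swap x₂ (τ x₂)) := by rw [c7]
        _ = swap x₁ (τ x₁) * (swap x₁ (τ x₁) * swap x₃ (τ x₃)) * swap x₂ (τ x₂) := by group
        _ = swap x₁ (τ x₁) * (swap x₃ (τ x₃) * swap x₁ (τ x₁)) * swap x₂ (τ x₂) := by rw [b7]
        _ = _ := by group
    · rw [← mul_assoc, hcom x₁, mul_assoc, hcom x₂, mul_assoc]
    · rw [← mul_assoc, hcom x₁, mul_assoc, hcom x₃, mul_assoc]
  · -- four fixed points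
    have hf : 4 ≤ (τ.supportᶜ).card := by
      rw [Finset.card_compl]
      omega
    obtain ⟨s, hs, hs4⟩ := Finset.exists_subset_card_eq hf
    obtain ⟨p₁, p₂, p₃, p₄, h12, h13, h14, h23, h24, h34, rfl⟩ := Finset.card_eq_four.1 hs4
    have hfix : ∀ p ∈ ({p₁, p₂, p₃, p₄} : Finset α), τ p = p := by
      intro p hp
      have h1 := hs hp
      rw [Finset.mem_compl, Perm.notMem_support] at h1
      exact h1
    have f1 := hfix p₁ (by simp)
    have f2 := hfix p₂ (by simp)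
    have f3 := hfix p₃ (by simp)
    have f4 := hfix p₄ (by simp)
    have hcom : ∀ {x y : α}, τ x = x → τ y = y → τ * swap x y = swap x y * τ := by
      intro x y hx hy
      rw [mul_swap_eq_swap_mul, hx, hy]
    obtain ⟨a1, a2, a3, a4, a5, a6, a7⟩ := dbl h12 h13 h14 h23 h24 h34
    obtain ⟨b1, b2, b3, b4, b5, b6, b7⟩ := dbl h13 h12 h14 h23.symm h34 h24
    refine ⟨_, _, a1, b1, a2, b2, ?_, ?_, ?_, ?_, ?_, ?_⟩
    · intro h
      rw [h, Perm.one_apply] at a3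
      exact h12 a3
    · intro h
      rw [h, Perm.one_apply] at b3
      exact h13 b3
    · intro h
      rw [h, b3] at a3
      exact h23 a3.symm
    · calc swap p₁ p₂ * swap p₃ p₄ * (swap p₁ p₃ * swap p₂ p₄) =
            (swap p₁ p₂ * swap p₃ p₄) * swap p₁ p₃ * swap p₂ p₄ := by group
        _ = swap p₂ p₄ * (swap p₁ p₂ * swap p₃ p₄) * swap p₂ p₄ := by
            rw [mul_swap_eq_swap_mul (swap p₁ p₂ * swap p₃ p₄) p₁ p₃, a3, a5]
        _ = swap p₂ p₄ * ((swap p₁ p₂ * swap p₃ p₄) * swap p₂ p₄) := by group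
        _ = swap p₂ p₄ * (swap p₁ p₃ * (swap p₁ p₂ * swap p₃ p₄)) := by
            rw [mul_swap_eq_swap_mul (swap p₁ p₂ * swap p₃ p₄) p₂ p₄, a4, a6]
        _ = (swap p₂ p₄ * swap p₁ p₃) * (swap p₁ p₂ * swap p₃ p₄) := by group
        _ = _ := by rw [← b7]
    · rw [← mul_assoc, hcom f1 f2, mul_assoc, hcom f3 f4, mul_assoc]
    · rw [← mul_assoc, hcom f1 f3, mul_assoc, hcom f2 f4, mul_assoc]

end Perm

/-- **Alternating groups of degree at least `8`.** -/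
theorem twoFix_alt {n : ℕ} (hn : 8 ≤ n) : TwoFix (alternatingGroup (Fin n)) := by
  intro t ht
  obtain ⟨ψ, hψ⟩ := Cfsg.Agent.StandardComponent.AltAut.exists_autHom n (by omega)
  have hτ : ψ t * ψ t = 1 := by rw [← map_mul, ht, map_one]
  obtain ⟨a, b, ha, hb, haa, hbb, ha1, hb1, hab, hc, hτa, hτb⟩ :=
    exists_pair (α := Fin n) (by rw [Fintype.card_fin]; exact hn) hτ
  refine ⟨⟨a, mem_alternatingGroup.2 ha⟩, ⟨b, mem_alternatingGroup.2 hb⟩, ?_, ?_, ?_, ?_, ?_, ?_⟩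
  · intro h
    exact hab (congrArg Subtype.val h)
  · refine orderOf_eq_prime (by rw [sq]; exact Subtype.ext haa) fun h => ha1 (congrArg Subtype.val h)
  · refine orderOf_eq_prime (by rw [sq]; exact Subtype.ext hbb) fun h => hb1 (congrArg Subtype.val h)
  · exact Subtype.ext hc
  · refine Subtype.ext ?_
    rw [hψ]
    show ψ t * a * (ψ t)⁻¹ = a
    rw [hτa, mul_inv_cancel_right]
  · refine Subtype.ext ?_
    rw [hψ]
    show ψ t * b * (ψ t)⁻¹ = b
    rw [hτb, mul_inv_cancel_right]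

theorem twoFix {X : Type*} [Group X] {n : ℕ} (hn : 8 ≤ n) (h : GH.Defs.IsAlt n X) : TwoFix X := by
  obtain ⟨e⟩ := h
  exact (twoFix_alt hn).congr e.symm

end Cfsg.Agent.UGT.TwoFix.Alt
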