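import Cfsg.Agent.UGT.TwoFix.Base
import Cfsg.Agent.MTwelveType.Base
import Cfsg.Agent.MTwelveType.SylowModel

/-!
# `TwoFix` for `M₁₂`

Every Sylow 2-subgroup is `T 4 = (Z₄ × Z₄) : 2²`, `A = Z₄ × Z₄ = C_T([T,T])` is characteristic, and an automorphism
of order 2 which is non-trivial on `Ω₁(A)` makes `A` a free module, so it fixes an involution inverting `A`.
-/

set_option autoImplicit false

namespace Cfsg.Agent.UGT.M12

open Cfsg.Agent.ClassificationK.GTwoModel Cfsg.Agent.ClassificationK.GTwoModel.T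
open Cfsg.Agent.MTwelveType.Base

/-- a generator of `A` -/
def ea : T (2 * 2) := ⟨1, 0, false, false⟩

section decides

set_option maxRecDepth 1000000

theorem inA_of_comm : ∀ x : T (2 * 2), x * a' 2 = a' 2 * x →
    x * ⟨1, -1, false, false⟩ = ⟨1, -1, false, false⟩ * x → InA x := by
  decide

theorem comm_inA : ∀ x y : T (2 * 2), InA (x * y * x⁻¹ * y⁻¹) := by
  decide

theorem inA_comm : ∀ x : T (2 * 2), InA x → ∀ y : T (2 * 2), InA y → x * y = y * x := by
  decide

theorem comm_a' : t 2 * ea * (t 2)⁻¹ * ea⁻¹ = a' 2 := by decide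

theorem comm_d : u 2 * ⟨0, 1, false, false⟩ * (u 2)⁻¹ * (⟨0, 1, false, false⟩ : T (2 * 2))⁻¹ =
    ⟨1, -1, false, false⟩ := by decide

theorem center_cases : ∀ x : T (2 * 2), (x * t 2 = t 2 * x) → (x * u 2 = u 2 * x) → x * ea = ea * x →
    x = 1 ∨ x = z 2 := by decide

theorem z_central : ∀ x : T (2 * 2), z 2 * x = x * z 2 := by decide

theorem inA_inv_cases : ∀ x : T (2 * 2), InA x → x * x = 1 → x = 1 ∨ x = z 2 ∨ x = a' 2 ∨ x = b' 2 := by
  decide

theorem inv_t : ∀ x : T (2 * 2), InA x → t 2 * x * (t 2)⁻¹ = x⁻¹ := by decide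

theorem of_inv : ∀ x : T (2 * 2), x * ea * x⁻¹ = ea⁻¹ → x * ⟨0, 1, false, false⟩ * x⁻¹ = (⟨0, 1, false, false⟩ : T (2 * 2))⁻¹ →
    InA (t 2 * x) := by decide

theorem gen_A : ∀ v : T (2 * 2), InA v → v * v = b' 2 → ∀ x : T (2 * 2), InA x →
    ∃ i j : Fin 4, x = ea ^ (i : ℕ) * v ^ (j : ℕ) := by decide

theorem solve : ∀ v : T (2 * 2), InA v → v * v = b' 2 → ∀ i j : Fin 4,
    (ea ^ (i : ℕ) * v ^ (j : ℕ)) * (v ^ (i : ℕ) * ea ^ (j : ℕ)) = 1 →
    ea ^ (i : ℕ) * v ^ (j : ℕ) = ea ^ (i : ℕ) * (v ^ (i : ℕ))⁻¹ := by decide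

theorem tA : ∀ y : T (2 * 2), InA y → (t 2 * y) * (t 2 * y) = 1 ∧ t 2 * y ≠ 1 ∧ z 2 ≠ t 2 * y := by decide

theorem inA_pow : ∀ i : Fin 4, InA (ea ^ (i : ℕ)) := by decide

end decides

theorem orderOf_two {G : Type*} [Group G] {x : G} (h : x * x = 1) (h1 : x ≠ 1) : orderOf x = 2 :=
  orderOf_eq_prime (by rw [pow_two, h]) h1

theorem twoFix_T : TwoFix (T (2 * 2)) := by
  intro φ hφ
  have hh : ∀ x, φ (φ x) = x := fun x => by rw [← MulAut.mul_apply, hφ]; rfl
  -- `A` is stable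
  have hA : ∀ x, InA x → InA (φ x) := by
    intro x hx
    have key : ∀ y w : T (2 * 2), φ x * (y * w * y⁻¹ * w⁻¹) = (y * w * y⁻¹ * w⁻¹) * φ x := by
      intro y w
      have h1 := inA_comm x hx _ (comm_inA (φ y) (φ w))
      have h2 := congrArg φ h1
      simpa only [map_mul, map_inv, hh] using h2
    refine inA_of_comm _ ?_ ?_
    · have := key (t 2) ea
      rwa [comm_a'] at this
    · have := key (u 2) ⟨0, 1, false, false⟩
      rwa [comm_d] at this
  -- `z` is fixed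
  have hz : φ (z 2) = z 2 := by
    have key : ∀ y, φ (z 2) * y = y * φ (z 2) := by
      intro y
      have := congrArg φ (z_central (φ y))
      simpa only [map_mul, hh] using this
    rcases center_cases _ (key _) (key _) (key _) with h | h
    · have : z 2 = 1 := by rw [← hh (z 2), h, map_one]
      exact absurd this (by decide)
    · exact h
  have hz2 : orderOf (z 2 : T (2 * 2)) = 2 := orderOf_two (by decide) (by decide)
  have ha' : φ (a' 2) * φ (a' 2) = 1 := by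
    rw [← map_mul, show (a' 2 : T (2 * 2)) * a' 2 = 1 by decide, map_one]
  rcases inA_inv_cases _ (hA (a' 2) (by decide)) ha' with h | h | h | h
  · exact absurd ((map_eq_one_iff φ φ.injective).1 h) (by decide)
  · rw [← hz] at h
    exact absurd (φ.injective h) (by decide)
  · exact ⟨z 2, a' 2, by decide, hz2, orderOf_two (by decide) (by decide), by decide, hz, h⟩
  · -- `φ` swaps `a'` and `b'`
    have hv : InA (φ ea) := hA _ (by decide)
    have hvv : φ ea * φ ea = b' 2 := by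
      rw [← map_mul, show (ea : T (2 * 2)) * ea = a' 2 by decide, h]
    have hinv : ∀ y, InA y → φ (t 2) * y * (φ (t 2))⁻¹ = y⁻¹ := by
      intro y hy
      have := congrArg φ (inv_t (φ y) (hA y hy))
      simpa only [map_mul, map_inv, hh] using this
    have hx0 : InA (t 2 * φ (t 2)) := of_inv _ (hinv _ (by decide)) (hinv _ (by decide))
    have htt : (t 2 : T (2 * 2)) * t 2 = 1 := by decide
    obtain ⟨i, j, hij⟩ := gen_A _ hv hvv _ hx0
    have h1 : φ (t 2 * φ (t 2)) = φ (t 2) * t 2 := by rw [map_mul, hh]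
    have h2 : (t 2 * φ (t 2)) * φ (t 2 * φ (t 2)) = 1 := by
      rw [h1, mul_assoc, ← mul_assoc (φ (t 2)), ← map_mul, htt, map_one, one_mul, htt]
    rw [hij, map_mul, map_pow, map_pow, hh] at h2
    have h3 := solve _ hv hvv i j h2
    rw [← hij] at h3
    have h4 : φ (t 2) = t 2 * (ea ^ (i : ℕ) * (φ ea ^ (i : ℕ))⁻¹) := by
      rw [← h3, ← mul_assoc, htt, one_mul]
    have h5 : φ (t 2 * ea ^ (i : ℕ)) = t 2 * ea ^ (i : ℕ) := by
      rw [map_mul, h4, map_pow, mul_assoc, mul_assoc, inv_mul_cancel, mul_one]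
    obtain ⟨h6, h7, h8⟩ := tA _ (inA_pow i)
    exact ⟨z 2, t 2 * ea ^ (i : ℕ), h8, hz2, orderOf_two h6 h7, z_central _, hz, h5⟩

/-- `TwoFix` for `M₁₂` -/
theorem twoFix {X : Type*} [Group X] (h : Cfsg.Spor.IsoM12 X) : TwoFix X := by
  obtain ⟨e⟩ := h
  refine TwoFix.congr e.symm (TwoFix.of_sylow fun S => ?_)
  obtain ⟨f⟩ := Cfsg.Agent.MTwelveType.SylowModel.exists_equiv S
  exact TwoFix.congr f twoFix_T

end Cfsg.Agent.UGT.M12
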