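import Cfsg.Agent.UGT.TwoFix.Base
import Cfsg.Agent.UGT.End
import Cfsg.Agent.LieRecognition.PSUThreeSylow
import Cfsg.Agent.CoreKilling.PSU
import Cfsg.Agent.GH.Defs

/-!
# `TwoFix` and trivial cores for `U₃(4)`

The Sylow 2-subgroup `S` (order 64) has `Z(S) = Ω₁(S) = 2²`, and no two elements `x, y` with
`x² = y² = (xy)² ≠ 1`.  An automorphism `φ` of order 2 of `S` fixes at least four cosets of `Z(S)`; if it moved an
element of `Z(S)` then the squares of the elements of all these cosets would be equal.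
-/

set_option autoImplicit false

namespace Cfsg.Agent.UGT.U34

open Subgroup Cfsg.Agent.LieRecognition
open Cfsg.Agent.LieRecognition.HermHeis Cfsg.Agent.LieRecognition.PSUThreeSylow

section heis

variable {F : Type*} [Field F] [CharP F 2] {σ : F →+* F} [hσ : Fact (∀ x, σ (σ x) = x)]

theorem sq_b (x : Heis σ) : (x * x).b = x.a * σ x.a := by
  rw [mul_b, CharTwo.add_self_eq_zero, zero_add]

/-- no quaternion groups -/
theorem no_q8 (hs : ∀ x, σ x = x ^ 4) {x y : Heis σ} (h1 : x * x = y * y)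
    (h2 : (x * y) * (x * y) = x * x) : x.a = 0 := by
  have h2' : (2 : F) = 0 := CharTwo.two_eq_zero
  have e1 : x.a ^ 5 = y.a ^ 5 := by
    have := congrArg Heis.b h1
    rw [sq_b, sq_b, hs, hs] at this
    linear_combination this
  have e2 : (x.a + y.a) ^ 5 = x.a ^ 5 := by
    have := congrArg Heis.b h2
    rw [sq_b, sq_b, hs, hs, mul_a] at this
    linear_combination this
  by_contra hne
  have e3 : x.a * y.a ^ 4 + x.a ^ 4 * y.a = x.a ^ 5 := by
    linear_combination e2 + e1 - (x.a ^ 5 + 2 * x.a ^ 4 * y.a + 5 * x.a ^ 3 * y.a ^ 2 + 5 * x.a ^ 2 * y.a ^ 3 + 2 * x.a * y.a ^ 4) * h2'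
  have e4 : x.a ^ 4 * (x.a ^ 2 + x.a * y.a + y.a ^ 2) = 0 := by
    linear_combination y.a * e3 + x.a * e1 + (x.a ^ 5 * y.a) * h2'
  have e5 : x.a ^ 2 + x.a * y.a + y.a ^ 2 = 0 :=
    (mul_eq_zero.1 e4).resolve_left (pow_ne_zero 4 hne)
  have e6 : x.a ^ 3 = y.a ^ 3 := by linear_combination (x.a - y.a) * e5
  have hy : y.a ≠ 0 := by
    intro h0
    rw [h0] at e1
    exact hne (pow_eq_zero_iff (by norm_num) |>.1 (e1.trans (by norm_num)))
  have e7 : y.a ^ 3 * (x.a - y.a) ^ 2 = 0 := by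
    linear_combination e1 - x.a ^ 2 * e6 + (y.a ^ 5 - x.a * y.a ^ 4) * h2'
  have e8 : x.a = y.a :=
    sub_eq_zero.1 ((pow_eq_zero_iff (by norm_num)).1
      ((mul_eq_zero.1 e7).resolve_left (pow_ne_zero 3 hy)))
  apply hne
  have e9 : x.a ^ 5 = 0 := by
    rw [← e2, ← e8, CharTwo.add_self_eq_zero]; norm_num
  exact (pow_eq_zero_iff (by norm_num)).1 e9

/-- the map induced on the first coordinates -/
theorem exists_psi [Finite F] (hs : ∀ x, σ x = x ^ 4) (hF : Nat.card F = 4 ^ 2) (φ : MulAut (Heis σ)) :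
    ∃ ψ : F →+ F, ∀ x : Heis σ, ψ x.a = (φ x).a := by
  choose s hsa using fun a : F => exists_heis_a (σ := σ) (q := 4) (by norm_num) hs hF a
  have key : ∀ x y : Heis σ, x.a = y.a → (φ x).a = (φ y).a := by
    intro x y hxy
    have h1 : (x * y⁻¹) * (x * y⁻¹) = 1 := by
      rw [HermHeis.mul_self_eq_one_iff, mul_a, inv_a, hxy, CharTwo.add_self_eq_zero]
    have h2 : (φ (x * y⁻¹)) * (φ (x * y⁻¹)) = 1 := by rw [← map_mul, h1, map_one]
    rw [HermHeis.mul_self_eq_one_iff, map_mul, map_inv, mul_a, inv_a] at h2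
    exact CharTwo.add_eq_zero.1 h2
  refine ⟨⟨⟨fun a => (φ (s a)).a, ?_⟩, ?_⟩, fun x => key _ _ (hsa _)⟩
  · rw [key (s 0) 1 (hsa 0), map_one, one_a]
  · intro a b
    change (φ (s (a + b))).a = (φ (s a)).a + (φ (s b)).a
    rw [key (s (a + b)) (s a * s b) (by rw [hsa, mul_a, hsa, hsa]), map_mul, mul_a]

/-- an additive involution of a group of order 16 and exponent 2 fixes two different non-zero elements -/
theorem exists_fixed [Finite F] (hF : Nat.card F = 4 ^ 2) (ψ : F →+ F) (hψ : ∀ a, ψ (ψ a) = a) :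
    ∃ a b : F, a ≠ 0 ∧ b ≠ 0 ∧ a ≠ b ∧ ψ a = a ∧ ψ b = b := by
  let g : F →+ F := ψ - AddMonoidHom.id F
  have hg : ∀ a, g a = ψ a - a := fun a => rfl
  have h1 : g.range ≤ g.ker := by
    rintro _ ⟨a, rfl⟩
    rw [AddMonoidHom.mem_ker, hg, hg, map_sub, hψ]
    linear_combination (a - ψ a) * (CharTwo.two_eq_zero (R := F))
  have h2 : Nat.card g.range * Nat.card g.ker = 4 ^ 2 := by
    rw [← hF, ← AddSubgroup.index_mul_card g.ker, AddSubgroup.index_ker]
  have h3 : Nat.card g.range ≤ Nat.card g.ker := Nat.card_le_card_of_injective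
    (fun x : g.range => (⟨x.1, h1 x.2⟩ : g.ker)) (fun x y h => Subtype.ext (Subtype.mk.inj h))
  have h4 : 4 ≤ Nat.card g.ker := by
    by_contra hlt
    have : Nat.card g.range * Nat.card g.ker ≤ 3 * 3 := Nat.mul_le_mul (by omega) (by omega)
    omega
  have h5 : ∀ a b : F, ∃ c : F, c ≠ a ∧ c ≠ b ∧ ψ c = c := by
    intro a b
    by_contra hcon
    push Not at hcon
    have : (g.ker : Set F) ⊆ {a, b} := by
      intro c hc
      by_contra hc'
      simp only [Set.mem_insert_iff, Set.mem_singleton_iff, not_or] at hc'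
      refine hcon c hc'.1 hc'.2 ?_
      have := (AddMonoidHom.mem_ker).1 hc
      rw [hg] at this
      exact sub_eq_zero.1 this
    have h6 := Set.ncard_le_ncard this (Set.toFinite _)
    have h7 := Set.ncard_insert_le a ({b} : Set F)
    rw [Set.ncard_singleton] at h7
    have h8 : (g.ker : Set F).ncard = Nat.card g.ker := rfl
    omega
  obtain ⟨a, ha, -, ha'⟩ := h5 0 0
  obtain ⟨b, hb, hba, hb'⟩ := h5 0 a
  exact ⟨a, b, ha, hb, hba.symm, ha', hb'⟩

theorem orderOf_two {G : Type*} [Group G] {x : G} (h : x * x = 1) (h1 : x ≠ 1) : orderOf x = 2 :=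
  orderOf_eq_prime (by rw [pow_two, h]) h1

theorem twoFix_heis [Finite F] (hs : ∀ x, σ x = x ^ 4) (hF : Nat.card F = 4 ^ 2) : TwoFix (Heis σ) := by
  intro φ hφ
  have hh : ∀ x, φ (φ x) = x := fun x => by rw [← MulAut.mul_apply, hφ]; rfl
  have : Finite (Heis σ) := Finite.of_injective (fun x : Heis σ => (x.a, x.b)) fun x y h => by
    simp only [Prod.mk.injEq] at h
    exact Heis.ext h.1 h.2
  have hZ := card_center (σ := σ) (q := 4) (by norm_num) hs hF
  have hZa : ∀ x : Heis σ, x ∈ Subgroup.center (Heis σ) ↔ x.a = 0 :=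
    fun x => mem_center_iff (by norm_num) hs hF x
  have hZm : ∀ x : Heis σ, x ∈ Subgroup.center (Heis σ) → φ x ∈ Subgroup.center (Heis σ) := by
    intro x hx
    rw [hZa, ← HermHeis.mul_self_eq_one_iff, ← map_mul, (HermHeis.mul_self_eq_one_iff x).2 ((hZa x).1 hx), map_one]
  by_cases hall : ∀ x ∈ Subgroup.center (Heis σ), φ x = x
  · -- two involutions of the centre
    have h5 : ∀ a b : Heis σ, ∃ c ∈ Subgroup.center (Heis σ), c ≠ a ∧ c ≠ b := by
      intro a b
      by_contra hcon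
      push Not at hcon
      have : (Subgroup.center (Heis σ) : Set (Heis σ)) ⊆ {a, b} := by
        intro c hc
        by_contra hc'
        simp only [Set.mem_insert_iff, Set.mem_singleton_iff, not_or] at hc'
        exact hc'.2 (hcon c hc hc'.1)
      have h6 := Set.ncard_le_ncard this (Set.toFinite _)
      have h7 := Set.ncard_insert_le a ({b} : Set (Heis σ))
      rw [Set.ncard_singleton] at h7
      have h8 : (Subgroup.center (Heis σ) : Set (Heis σ)).ncard = Nat.card (Subgroup.center (Heis σ)) := rfl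
      omega
    obtain ⟨a, ha, ha1, -⟩ := h5 1 1
    obtain ⟨b, hb, hb1, hba⟩ := h5 1 a
    exact ⟨a, b, hba.symm, orderOf_two ((HermHeis.mul_self_eq_one_iff a).2 ((hZa a).1 ha)) ha1,
      orderOf_two ((HermHeis.mul_self_eq_one_iff b).2 ((hZa b).1 hb)) hb1,
      (Subgroup.mem_center_iff.1 hb a), hall a ha, hall b hb⟩
  · exfalso
    push Not at hall
    obtain ⟨z, hz, hzf⟩ := hall
    -- at most one fixed involution in the centre
    have huniq : ∀ u ∈ Subgroup.center (Heis σ), ∀ v ∈ Subgroup.center (Heis σ), φ u = u → φ v = v →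
        u ≠ 1 → v ≠ 1 → u = v := by
      intro u hu v hv hfu hfv hu1 hv1
      by_contra huv
      have hne1 : z ≠ 1 := fun h => hzf (by rw [h, map_one])
      have hnz : ∀ w, φ w = w → w ≠ z := fun w hw h => hzf (by rw [← h, hw])
      have hnz' : ∀ w, φ w = w → w ≠ φ z := fun w hw h => by
        apply hzf
        have h2 := congrArg φ h
        rw [hw, hh] at h2
        rw [← h2, hw]
      have hsub : ({1, u, v, z, φ z} : Set (Heis σ)) ⊆ (Subgroup.center (Heis σ) : Set (Heis σ)) := by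
        intro x hx
        simp only [Set.mem_insert_iff, Set.mem_singleton_iff] at hx
        rcases hx with rfl | rfl | rfl | rfl | rfl
        · exact one_mem _
        · exact hu
        · exact hv
        · exact hz
        · exact hZm _ hz
      have hc := Set.ncard_le_ncard hsub (Set.toFinite _)
      have h8 : (Subgroup.center (Heis σ) : Set (Heis σ)).ncard = Nat.card (Subgroup.center (Heis σ)) := rfl
      rw [h8, hZ, Set.ncard_insert_of_notMem, Set.ncard_insert_of_notMem, Set.ncard_insert_of_notMem,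
        Set.ncard_pair (fun h => hzf h.symm)] at hc
      · omega
      · simp only [Set.mem_insert_iff, Set.mem_singleton_iff, not_or]
        exact ⟨hnz v hfv, hnz' v hfv⟩
      · simp only [Set.mem_insert_iff, Set.mem_singleton_iff, not_or]
        exact ⟨huv, hnz u hfu, hnz' u hfu⟩
      · simp only [Set.mem_insert_iff, Set.mem_singleton_iff, not_or]
        exact ⟨hu1.symm, hv1.symm, hne1.symm, hnz' 1 (map_one φ)⟩
    obtain ⟨ψ, hψ⟩ := exists_psi hs hF φ
    obtain ⟨a, b, ha, hb, hab, hfa, hfb⟩ := exists_fixed hF ψ (fun a => by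
      obtain ⟨x, hx⟩ := exists_heis_a (σ := σ) (q := 4) (by norm_num) hs hF a
      rw [← hx, hψ, hψ, hh])
    obtain ⟨x, hx⟩ := exists_heis_a (σ := σ) (q := 4) (by norm_num) hs hF a
    obtain ⟨y, hy⟩ := exists_heis_a (σ := σ) (q := 4) (by norm_num) hs hF b
    have hsqZ : ∀ w : Heis σ, w * w ∈ Subgroup.center (Heis σ) := fun w => by
      rw [hZa, mul_a, CharTwo.add_self_eq_zero]
    have hsq1 : ∀ w : Heis σ, w.a ≠ 0 → w * w ≠ 1 := fun w hw h => hw ((HermHeis.mul_self_eq_one_iff w).1 h)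
    have hsqf : ∀ w : Heis σ, ψ w.a = w.a → φ (w * w) = w * w := by
      intro w hw
      rw [hψ] at hw
      have hm : φ w * w⁻¹ ∈ Subgroup.center (Heis σ) := by
        rw [hZa, mul_a, inv_a, hw, CharTwo.add_self_eq_zero]
      obtain ⟨c, hc, hcw⟩ : ∃ c ∈ Subgroup.center (Heis σ), φ w = c * w := ⟨_, hm, by group⟩
      have hcc : c * c = 1 := (HermHeis.mul_self_eq_one_iff c).2 ((hZa c).1 hc)
      have hcm : w * c = c * w := Subgroup.mem_center_iff.1 hc w
      rw [map_mul, hcw]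
      calc c * w * (c * w) = c * (w * c) * w := by simp only [mul_assoc]
        _ = (c * c) * (w * w) := by rw [hcm]; simp only [mul_assoc]
        _ = w * w := by rw [hcc, one_mul]
    have hxyf : ψ (x * y).a = (x * y).a := by rw [mul_a, map_add, hx, hy, hfa, hfb]
    have hxya : (x * y).a ≠ 0 := by
      rw [mul_a, hx, hy]
      exact fun h => hab (CharTwo.add_eq_zero.1 h)
    have h1 := huniq _ (hsqZ x) _ (hsqZ y) (hsqf x (by rw [hx, hfa])) (hsqf y (by rw [hy, hfb]))
      (hsq1 x (by rwa [hx])) (hsq1 y (by rwa [hy]))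
    have h2 := huniq _ (hsqZ (x * y)) _ (hsqZ x) (hsqf _ hxyf) (hsqf x (by rw [hx, hfa]))
      (hsq1 _ hxya) (hsq1 x (by rwa [hx]))
    exact ha (by rw [← hx]; exact no_q8 hs h1 h2)

end heis

/-- `TwoFix` for `U₃(4)` -/
theorem twoFix {X : Type*} [Group X] (h : Cfsg.Agent.GH.Defs.IsU34 X) : TwoFix X := by
  obtain ⟨F, _, _, hF, ⟨e⟩⟩ := h
  have hF' : Nat.card F = (2 ^ 2) ^ 2 := by rw [Nat.card_eq_fintype_card, hF]; norm_num
  obtain ⟨h2, σ, hσ, hs, -, hS⟩ := exists_heis_equiv F (n := 2) (by norm_num) hF'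
  refine TwoFix.congr e.symm (TwoFix.of_sylow fun S => ?_)
  obtain ⟨f⟩ := hS S
  exact TwoFix.congr f (twoFix_heis hs (by rw [hF']; norm_num))

/-- the cores of the centralizers of the involutions of `U₃(4)` are trivial -/
theorem endInner {X : Type*} [Group X] [IsSimpleGroup X] (h : Cfsg.Agent.GH.Defs.IsU34 X) :
    Cfsg.Agent.UGT.End.EndInner X := by
  intro x hx
  obtain ⟨a, b, hab, ha, hb, hc, -, -⟩ := twoFix h 1 rfl
  obtain ⟨F, _, _, hF, ⟨e⟩⟩ := h
  have hF' : Nat.card F = (2 ^ 2) ^ 2 := by rw [Nat.card_eq_fintype_card, hF]; norm_num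
  have hs : IsSimpleGroup (Cfsg.PSU 3 F (2 ^ 2)) := (MulEquiv.isSimpleGroup_congr e).mp ‹_›
  have hinv : ∀ y : X, orderOf y = 2 → e y ≠ 1 ∧ e y * e y = 1 := by
    intro y hy
    refine ⟨fun h => ?_, ?_⟩
    · rw [(map_eq_one_iff e e.injective).1 h, orderOf_one] at hy
      omega
    · rw [← map_mul, ← pow_two, ← hy, pow_orderOf_eq_one, map_one]
  have hex : orderOf (e x) = 2 := (orderOf_injective e.toMonoidHom e.injective x).trans hx
  have h1 := Cfsg.Agent.CoreKilling.PSU.core_eq_bot_psu (F := F) (n := 2) (by norm_num) hF'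
    ⟨e a, e b, (hinv a ha).1, (hinv b hb).1, fun h => hab (e.injective h), (hinv a ha).2, (hinv b hb).2,
      by rw [← map_mul, hc, map_mul]⟩ (x := e x) hex
  have h2 := Cfsg.Agent.UGT.End.map_core' e 2 x
  rw [h1] at h2
  exact (Subgroup.map_eq_bot_iff_of_injective _ e.injective).1 h2

end Cfsg.Agent.UGT.U34
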